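import Mathlib

/-!
# S3510, EXC: cycle types of elements of `S₅`, `S₈` whose order is not a prime power (helper390)
-/

set_option autoImplicit false

namespace Cfsg.Agent.H390.RC

open Equiv Equiv.Perm

theorem dvd_lcm {r : ℕ} (hr : r.Prime) (s : Multiset ℕ) (h : r ∣ s.lcm) : ∃ k ∈ s, r ∣ k := by
  induction s using Multiset.induction_on with
  | empty =>
    rw [Multiset.lcm_zero] at h
    exact absurd (Nat.dvd_one.1 h) hr.ne_one
  | cons a s ih =>
    rw [Multiset.lcm_cons] at h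
    rcases (hr.dvd_lcm).1 h with h | h
    · exact ⟨a, Multiset.mem_cons_self _ _, h⟩
    · obtain ⟨k, hk, h⟩ := ih h
      exact ⟨k, Multiset.mem_cons_of_mem hk, h⟩

theorem small_one {t : Multiset ℕ} (ht : ∀ k ∈ t, 2 ≤ k) (hs : t.sum ≤ 1) : t = 0 := by
  rcases Multiset.empty_or_exists_mem t with h | ⟨k, hk⟩
  · exact h
  · have h1 := Multiset.single_le_sum (fun _ _ => Nat.zero_le _) k hk
    have h2 := ht k hk
    omega

theorem small_three {t : Multiset ℕ} (ht : ∀ k ∈ t, 2 ≤ k) (hs : t.sum ≤ 3) : t = 0 ∨ t = {2} ∨ t = {3} := by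
  rcases Multiset.empty_or_exists_mem t with h | ⟨k, hk⟩
  · exact Or.inl h
  · obtain ⟨u, rfl⟩ := Multiset.exists_cons_of_mem hk
    rw [Multiset.sum_cons] at hs
    have h2 := ht k hk
    have h3 : u = 0 := small_one (fun j hj => ht j (Multiset.mem_cons_of_mem hj)) (by omega)
    subst h3
    have h4 : k = 2 ∨ k = 3 := by omega
    rcases h4 with rfl | rfl
    · exact Or.inr (Or.inl rfl)
    · exact Or.inr (Or.inr rfl)

/-- multisets of sum at most `8` whose lcm has two prime divisors -/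
theorem class_eight {s : Multiset ℕ} (h2 : ∀ k ∈ s, 2 ≤ k) (hs : s.sum ≤ 8) {r₁ r₂ : ℕ} (hr₁ : r₁.Prime)
    (hr₂ : r₂.Prime) (hlt : r₁ < r₂) (hd₁ : r₁ ∣ s.lcm) (hd₂ : r₂ ∣ s.lcm) :
    s = {6} ∨ s = {6, 2} ∨ s = {3, 4} ∨ s = {3, 2} ∨ s = {3, 2, 2} ∨ s = {3, 2, 3} ∨ s = {5, 2} ∨ s = {5, 3} := by
  have h3 : 3 ≤ r₂ := by
    have := hr₁.two_le
    omega
  obtain ⟨k, hk, hrk⟩ := dvd_lcm hr₂ s hd₂
  obtain ⟨t, rfl⟩ := Multiset.exists_cons_of_mem hk
  have ht : ∀ j ∈ t, 2 ≤ j := fun j hj => h2 j (Multiset.mem_cons_of_mem hj)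
  rw [Multiset.sum_cons] at hs
  have hk2 := h2 k hk
  have hk8 : k ≤ 8 := by omega
  have hr8 : r₂ ≤ 8 := (Nat.le_of_dvd (by omega) hrk).trans hk8
  have hk' : (k = 3 ∧ r₂ = 3) ∨ (k = 6 ∧ r₂ = 3) ∨ (k = 5 ∧ r₂ = 5) ∨ (k = 7 ∧ r₂ = 7) := by
    interval_cases r₂ <;> interval_cases k <;> revert hr₂ hrk <;> decide
  rcases hk' with ⟨rfl, rfl⟩ | ⟨rfl, rfl⟩ | ⟨rfl, rfl⟩ | ⟨rfl, rfl⟩
  · have hr1 : r₁ = 2 := by
      have := hr₁.two_le
      omega
    subst hr1
    rw [Multiset.lcm_cons] at hd₁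
    have h4 : 2 ∣ t.lcm := ((Nat.Prime.dvd_lcm Nat.prime_two).1 hd₁).resolve_left (by decide)
    obtain ⟨j, hj, h2j⟩ := dvd_lcm Nat.prime_two t h4
    obtain ⟨u, rfl⟩ := Multiset.exists_cons_of_mem hj
    rw [Multiset.sum_cons] at hs
    have hu : ∀ i ∈ u, 2 ≤ i := fun i hi => ht i (Multiset.mem_cons_of_mem hi)
    have hj2 := ht j hj
    have hj' : j = 2 ∨ j = 4 := by omega
    rcases hj' with rfl | rfl
    · rcases small_three hu (by omega) with rfl | rfl | rfl
      · right; right; right; left; rfl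
      · right; right; right; right; left; rfl
      · right; right; right; right; right; left; rfl
    · have := small_one hu (by omega)
      subst this
      right; right; left; rfl
  · rcases small_three ht (by omega) with rfl | rfl | rfl
    · left; rfl
    · right; left; rfl
    · simp at hs
  · rcases small_three ht (by omega) with rfl | rfl | rfl
    · exfalso
      have h5 : (5 ::ₘ (0 : Multiset ℕ)).lcm = 5 := by simp
      rw [h5] at hd₁
      have := (Nat.prime_dvd_prime_iff_eq hr₁ Nat.prime_five).1 hd₁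
      omega
    · right; right; right; right; right; right; left; rfl
    · right; right; right; right; right; right; right; rfl
  · have := small_one ht (by omega)
    subst this
    exfalso
    have h5 : (7 ::ₘ (0 : Multiset ℕ)).lcm = 7 := by simp
    rw [h5] at hd₁
    have := (Nat.prime_dvd_prime_iff_eq hr₁ (by norm_num)).1 hd₁
    omega

/-- multisets of sum at most `5` whose lcm has two prime divisors -/
theorem class_five {s : Multiset ℕ} (h2 : ∀ k ∈ s, 2 ≤ k) (hs : s.sum ≤ 5) {r₁ r₂ : ℕ} (hr₁ : r₁.Prime)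
    (hr₂ : r₂.Prime) (hlt : r₁ < r₂) (hd₁ : r₁ ∣ s.lcm) (hd₂ : r₂ ∣ s.lcm) : s = {3, 2} := by
  rcases class_eight h2 (by omega) hr₁ hr₂ hlt hd₁ hd₂ with rfl | rfl | rfl | rfl | rfl | rfl | rfl | rfl <;>
    revert hs <;> decide

end Cfsg.Agent.H390.RC
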