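import Cfsg.Agent.H390.RC.Six
import Cfsg.Agent.H106.RC.Red

/-!
# S3510, EXC: the statement for `T = A₅, A₆, A₈` (helper390)
-/

set_option autoImplicit false

namespace Cfsg.Agent.H390.RC

universe u v

theorem exc : Cfsg.Agent.H106.RC.ExcStmt.{u, v} := by
  intro G _ _ Ω _ _ _ T _ hT hC hprim g hg
  rcases hT with h | h | h
  · obtain ⟨e⟩ := h
    exact Or.inl ⟨⟨e⟩, exc_five T e hC hprim g hg⟩
  · obtain ⟨e⟩ := h
    exact Or.inr (Or.inl ⟨⟨e⟩, exc_six T e hC hprim g hg⟩)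
  · obtain ⟨e⟩ := h
    exact Or.inr (Or.inr ⟨⟨e⟩, exc_eight T e hC hprim g hg⟩)

end Cfsg.Agent.H390.RC
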