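import Cfsg.Agent.H390.RC.Exc
import Cfsg.Agent.H390.Cyc.OutCard
import Cfsg.Agent.H277.SK.AltSix

/-!
# S3510, EXC: `T = A₆` (helper390)
-/

set_option autoImplicit false
set_option maxRecDepth 100000

namespace Cfsg.Agent.H390.RC

open Equiv Equiv.Perm Cfsg.Agent.H277.SK

abbrev A6 := alternatingGroup (Fin 6)

theorem card_A6 : Nat.card A6 = 360 := by
  rw [nat_card_alternatingGroup, Nat.card_eq_fintype_card, Fintype.card_fin]
  rfl

theorem simple_A6 : IsSimpleGroup A6 := alternatingGroup.isSimpleGroup (by simp)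

theorem nc_A6 : ¬ IsMulCommutative A6 := by
  intro h
  have h1 : (cy (0 : Fin 6) 1 2) * cy 2 3 4 = cy 2 3 4 * cy 0 1 2 := by
    have h2 := h.is_comm.comm (⟨cy 0 1 2, mem_alternatingGroup.2 (by decide)⟩ : A6)
      ⟨cy 2 3 4, mem_alternatingGroup.2 (by decide)⟩
    exact congrArg Subtype.val h2
  exact absurd h1 (by decide)

theorem cn_coe (s : A6) : cn (s : Perm (Fin 6)) = MulAut.conj s := by
  apply MulEquiv.ext
  intro x
  apply Subtype.ext
  rw [cn_apply]
  rfl

theorem pr_cn' (σ : Perm (Fin 6)) : Pr (cn σ) := by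
  intro x hx
  unfold T3 IsThreeCycle at hx ⊢
  rw [cn_apply, cycleType_conj]
  exact hx

theorem pr_mul' {α β : MulAut A6} (hα : Pr α) (hβ : Pr β) : Pr (α * β) := fun x hx => hα _ (hβ x hx)

/-- there is an automorphism not induced by `S₆` -/
theorem exists_not_pr : ∃ τ : MulAut A6, ¬ Pr τ := by
  by_contra hc
  push Not at hc
  have := simple_A6
  have h1 := Cfsg.Agent.H390.Cyc.out_six (K := A6) ⟨MulEquiv.refl _⟩
  have h2 : Function.Surjective (cn : Perm (Fin 6) →* MulAut A6) := fun α => pr_cn (hc α)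
  have h3 := Nat.card_le_card_of_surjective _ h2
  have h4 : Nat.card (Perm (Fin 6)) = 720 := by
    rw [Nat.card_eq_fintype_card, Fintype.card_perm, Fintype.card_fin]
    rfl
  have h5 := Cfsg.Agent.H934.OutB.card_out_mul A6 nc_A6
  rw [h1, card_A6] at h5
  rw [h4, ← h5] at h3
  omega

/-- every inner conjugate of `M` contains an element of prime order of `⟨α⟩` -/
def CovA (M : Subgroup (MulAut A6)) (α : MulAut A6) : Prop :=
  ∀ s : A6, ∃ r : ℕ, r.Prime ∧ r ∣ orderOf α ∧ MulAut.conj s * α ^ (orderOf α / r) * (MulAut.conj s)⁻¹ ∈ M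

def GoodA (M : Subgroup (MulAut A6)) : Prop := ∃ K : Subgroup A6, K.index = 6 ∧ ∀ k ∈ K, MulAut.conj k ∈ M

variable {M : Subgroup (MulAut A6)} {α : MulAut A6}

theorem conj_map (τ : MulAut A6) (s : A6) : MulAut.conj (τ s) = τ * MulAut.conj s * τ⁻¹ := by
  ext x : 1
  simp [MulAut.conj_apply]

theorem CovA.conj (τ : MulAut A6) (h : CovA M α) : CovA (M.map (MulAut.conj τ).toMonoidHom) (τ * α * τ⁻¹) := by
  intro s
  have ho : orderOf (τ * α * τ⁻¹) = orderOf α := (MulAut.conj τ).orderOf_eq α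
  obtain ⟨r, hr, hd, hm⟩ := h (τ⁻¹ s)
  refine ⟨r, hr, by rwa [ho], _, hm, ?_⟩
  rw [conj_map, ho, conj_pow]
  change τ * _ * τ⁻¹ = _
  group

theorem GoodA.of_map (τ : MulAut A6) (h : GoodA (M.map (MulAut.conj τ).toMonoidHom)) : GoodA M := by
  obtain ⟨K, hK, hm⟩ := h
  refine ⟨K.comap τ.toMonoidHom, ?_, ?_⟩
  · rw [Subgroup.index_comap_of_surjective _ τ.surjective, hK]
  · intro k hk
    obtain ⟨m, hmM, hmk⟩ := hm (τ k) hk
    have h1 : τ * m * τ⁻¹ = τ * MulAut.conj k * τ⁻¹ := by
      rw [← conj_map]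
      exact hmk
    have h2 : m = MulAut.conj k := mul_left_cancel (mul_right_cancel h1)
    rwa [← h2]

theorem goodA_of_good (h : Good (M.comap cn)) : GoodA M := by
  obtain ⟨i, hi⟩ := h
  refine ⟨MulAction.stabilizer A6 i, index_stab (by norm_num) i, fun k hk => ?_⟩
  have h1 := hi k (mem_alternatingGroup.1 k.2) hk
  rw [Subgroup.mem_comap, cn_coe] at h1
  exact h1

theorem CovA.covG {σ : Perm (Fin 6)} (h : CovA M (cn σ)) : CovG (M.comap cn) σ := by
  intro a ha
  have ho : orderOf (cn σ) = orderOf σ := orderOf_injective cn cn_inj σ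
  obtain ⟨r, hr, hd, hm⟩ := h ⟨a, mem_alternatingGroup.2 ha⟩
  rw [← cn_coe, ho] at hm
  refine ⟨r, hr, by rwa [ho] at hd, ?_⟩
  rw [Subgroup.mem_comap, map_mul, map_mul, map_inv, map_pow]
  exact hm

theorem rep32s {M : Subgroup (Perm (Fin 6))} (h : CovG M (cy 0 1 2 * swap 3 4)) : Good M := by
  have ho : orderOf (cy 0 1 2 * swap 3 4 : Perm (Fin 6)) = 6 := by
    rw [← lcm_cycleType, show (cy 0 1 2 * swap 3 4 : Perm (Fin 6)).cycleType = {3, 2} by decide +kernel]
    decide
  have h1 : Cov2 M (swap 3 4) (cy 0 2 1) := h.cov2 ho (fun r => prime_six) (by decide) (by decide)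
  exact good_swap_cy (by simp) (by decide) h1

theorem good_32 {σ : Perm (Fin 6)} (hσ : σ.cycleType = {3, 2}) (h : CovA M (cn σ)) : GoodA M :=
  goodA_of_good (good_of_rep h.covG (hσ.trans (by decide +kernel)) fun _ => rep32s)

theorem type_six {σ : Perm (Fin 6)} {r₁ r₂ : ℕ} (hr₁ : r₁.Prime) (hr₂ : r₂.Prime)
    (hlt : r₁ < r₂) (hd₁ : r₁ ∣ orderOf σ) (hd₂ : r₂ ∣ orderOf σ) : σ.cycleType = {6} ∨ σ.cycleType = {3, 2} := by
  have hs : σ.cycleType.sum ≤ 6 := by
    rw [sum_cycleType]
    exact σ.support.card_le_univ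
  have h2 : ∀ k ∈ σ.cycleType, 2 ≤ k := fun k hk => two_le_of_mem_cycleType hk
  rw [← lcm_cycleType] at hd₁ hd₂
  rcases class_eight h2 (by omega) hr₁ hr₂ hlt hd₁ hd₂ with h | h | h | h | h | h | h | h
  · exact Or.inl h
  · rw [h] at hs; exact absurd hs (by decide)
  · rw [h] at hs; exact absurd hs (by decide)
  · exact Or.inr h
  · rw [h] at hs; exact absurd hs (by decide)
  · rw [h] at hs; exact absurd hs (by decide)
  · rw [h] at hs; exact absurd hs (by decide)
  · rw [h] at hs; exact absurd hs (by decide)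

theorem sq_type {σ : Perm (Fin 6)} (hσ : σ.cycleType = {6}) : (σ ^ 2).cycleType = {3, 3} := by
  have h1 : (swap 0 1 * swap 1 2 * swap 2 3 * swap 3 4 * swap 4 5 : Perm (Fin 6)).cycleType = {6} := by decide +kernel
  obtain ⟨c, hc⟩ := isConj_iff.1 (isConj_iff_cycleType_eq.2 (h1.trans hσ.symm))
  rw [← hc, conj_pow, cycleType_conj]
  decide +kernel

theorem good_6 {σ : Perm (Fin 6)} (hσ : σ.cycleType = {6}) (h : CovA M (cn σ)) : GoodA M := by
  obtain ⟨τ, hτ⟩ := exists_not_pr
  have ho6 : orderOf σ = 6 := by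
    rw [← lcm_cycleType, hσ]
    decide
  let s : A6 := ⟨σ ^ 2, mem_alternatingGroup.2 (by rw [map_pow]; exact Int.units_sq _)⟩
  have hs : Q3 s := sq_type hσ
  have hs' : T3 (τ s) := by
    rcases map_Q3 (α := τ) hs with h1 | h1
    · exact h1
    · exact absurd (pr_of_Q3 hs h1) hτ
  set β := τ * cn σ * τ⁻¹ with hβ
  have hfix : β (τ s) = τ s := by
    have h1 : β (τ s) = τ (cn σ s) := by
      rw [hβ, MulAut.mul_apply, MulAut.mul_apply, MulAut.inv_apply_self]
    rw [h1]
    congr 1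
    apply Subtype.ext
    rw [cn_apply]
    change σ * σ ^ 2 * σ⁻¹ = σ ^ 2
    group
  have hPr : Pr β := pr_of_T3 hs' (by rw [hfix]; exact hs')
  obtain ⟨σ', hσ'⟩ := pr_cn hPr
  have ho : orderOf σ' = 6 := by
    rw [← orderOf_injective cn cn_inj σ', hσ', hβ]
    exact ((MulAut.conj τ).orderOf_eq (cn σ)).trans ((orderOf_injective cn cn_inj σ).trans ho6)
  have hsq : σ' ^ 2 = ((τ s : A6) : Perm (Fin 6)) := by
    apply cn_inj
    rw [map_pow, hσ', cn_coe, conj_map, hβ, conj_pow, ← map_pow]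
    congr 2
  have ht : σ'.cycleType = {3, 2} := by
    rcases type_six Nat.prime_two Nat.prime_three (by norm_num) (by rw [ho]; norm_num) (by rw [ho]; norm_num) with h1 | h1
    · exfalso
      have h2 := sq_type h1
      rw [hsq] at h2
      exact T3_not_Q3 hs' h2
    · exact h1
  have h1 := h.conj τ
  rw [← hβ, ← hσ'] at h1
  exact (good_32 ht h1).of_map τ

/-- **the case `g ∈ S₆`** -/
theorem good_pr (h : CovA M α) (hα : Pr α) {r₁ r₂ : ℕ} (hr₁ : r₁.Prime) (hr₂ : r₂.Prime)
    (hlt : r₁ < r₂) (hd₁ : r₁ ∣ orderOf α) (hd₂ : r₂ ∣ orderOf α) : GoodA M := by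
  obtain ⟨σ, rfl⟩ := pr_cn hα
  rw [orderOf_injective cn cn_inj σ] at hd₁ hd₂
  rcases type_six hr₁ hr₂ hlt hd₁ hd₂ with h1 | h1
  · exact good_6 h1 h
  · exact good_32 h1 h

/-! ### The case `g ∉ S₆` -/

/-- a 5-cycle and a three-cycle -/
theorem five_three {P : Subgroup (Perm (Fin 6))} {c d : Perm (Fin 6)} (hc : orderOf c = 5) (hcP : c ∈ P)
    (hd : d.IsThreeCycle) (hdP : d ∈ P) : Good P := by
  have h5 : Fact (Nat.Prime 5) := ⟨Nat.prime_five⟩
  obtain ⟨n, hn⟩ := cycleType_prime_order (σ := c) (by rw [hc]; exact Nat.prime_five)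
  rw [hc] at hn
  have hsum := sum_cycleType c
  have hle : c.support.card ≤ 6 := c.support.card_le_univ
  rw [hn, Multiset.sum_replicate, smul_eq_mul] at hsum
  have hn0 : n = 0 := by omega
  subst hn0
  have hcyc : c.IsCycle := by
    rw [← card_cycleType_eq_one, hn]
    rfl
  have hcard : c.support.card = 5 := by omega
  obtain ⟨p, hp⟩ : ∃ p, p ∉ c.support := exists_notMem _ (by rw [hcard, Fintype.card_fin]; norm_num)
  have hcp : ∀ z, z ≠ p → c z ≠ z := by
    intro z hz hcz
    have h1 : c.support ⊆ (Finset.univ.erase p).erase z := by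
      intro w hw
      rw [Finset.mem_erase, Finset.mem_erase]
      refine ⟨?_, ?_, Finset.mem_univ _⟩
      · rintro rfl
        exact (mem_support.1 hw) hcz
      · rintro rfl
        exact hp hw
    have h2 := Finset.card_le_card h1
    rw [Finset.card_erase_of_mem (Finset.mem_erase.2 ⟨hz, Finset.mem_univ _⟩),
      Finset.card_erase_of_mem (Finset.mem_univ _), Finset.card_univ, Fintype.card_fin, hcard] at h2
    omega
  have hstep : ∀ f ∈ P, ∀ a b : Fin 6, Rel P a b → Rel P (f a) (f b) := by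
    rintro f hf a b (h | ⟨x, hxa, hxb, hab, h⟩)
    · rw [h]
      exact Rel.refl _
    · refine Or.inr ⟨f x, f.injective.ne hxa, f.injective.ne hxb, f.injective.ne hab, ?_⟩
      rw [← cy_conj]
      exact P.mul_mem (P.mul_mem hf h) (P.inv_mem hf)
  -- two related points different from `p`
  obtain ⟨a, b, hap, hbp, hab, hr⟩ : ∃ a b, a ≠ p ∧ b ≠ p ∧ a ≠ b ∧ Rel P a b := by
    obtain ⟨a, ha⟩ : ∃ a, d a ≠ a := by
      by_contra h
      push Not at h
      exact hd.ne_one (Equiv.ext h)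
    have ha' : a ∈ d.support := mem_support.2 ha
    have h5 := (IsThreeCycle.eq_swap_mul_swap_iff_mem_support hd).2 ha'
    have h6 := (IsThreeCycle.nodup_iff_mem_support hd).2 ha'
    have h7 : a ≠ d a := Ne.symm ha
    have h8 : d a ≠ d (d a) := fun h => ha (d.injective h).symm
    have h9 : a ≠ d (d a) := by
      intro h
      simp at h6
      exact h6.1.2 h
    have h10 : cy a (d a) (d (d a)) ∈ P := by
      have h11 : cy a (d a) (d (d a)) = d := h5.symm
      rw [h11]
      exact hdP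
    have r1 := Rel.of_cy h7 h8 h9 h10
    have r2 := Rel.of_cy' h7 h8 h9 h10
    by_cases h11 : a = p
    · exact ⟨d a, d (d a), fun h => h7 (h11.trans h.symm), fun h => h9 (h11.trans h.symm), h8, r2⟩
    · by_cases h12 : d a = p
      · exact ⟨a, d (d a), h11, fun h => h8 (h12.trans h.symm), h9, r1.trans r2⟩
      · exact ⟨a, d a, h11, h12, h7, r1⟩
  -- `b = f a`, `f` a generator
  obtain ⟨k, hk⟩ := hcyc.sameCycle (hcp a hap) (hcp b hbp)
  have hfo : orderOf (c ^ k) = 5 := by
    have h1 : orderOf (c ^ k) ∣ 5 := hc ▸ orderOf_dvd_of_mem_zpowers (Subgroup.zpow_mem_zpowers c k)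
    rcases (Nat.dvd_prime Nat.prime_five).1 h1 with h2 | h2
    · rw [orderOf_eq_one_iff] at h2
      rw [h2] at hk
      exact absurd hk hab
    · exact h2
  have hzp : Subgroup.zpowers (c ^ k) = Subgroup.zpowers c := by
    apply Subgroup.eq_of_le_of_card_ge
    · rw [Subgroup.zpowers_le]
      exact Subgroup.zpow_mem_zpowers c k
    · rw [Nat.card_zpowers, Nat.card_zpowers, hfo, hc]
  have hf : c ^ k ∈ P := P.zpow_mem hcP k
  have hpow : ∀ j : ℕ, Rel P a (((c ^ k) ^ j : Perm (Fin 6)) a) := by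
    intro j
    induction j with
    | zero => exact Rel.refl _
    | succ j ih =>
      refine ih.trans ?_
      have h1 := hstep ((c ^ k) ^ j) (P.pow_mem hf j) a b hr
      rw [← hk] at h1
      rw [pow_succ, Perm.mul_apply]
      exact h1
  have hall : ∀ z, z ≠ p → Rel P a z := by
    intro z hz
    obtain ⟨m, hm⟩ := hcyc.sameCycle (hcp a hap) (hcp z hz)
    have h1 : c ^ m ∈ Subgroup.zpowers (c ^ k) := by
      rw [hzp]
      exact Subgroup.zpow_mem_zpowers c m
    rw [← mem_powers_iff_mem_zpowers] at h1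
    obtain ⟨j, hj⟩ := h1
    have h2 := hpow j
    have h3 : (c ^ k) ^ j = c ^ m := hj
    rw [h3, hm] at h2
    exact h2
  exact good_of_rel p fun x y hx hy => (hall x hx).symm.trans (hall y hy)

/-- the even elements normalizing `⟨c⟩` -/
def Nset (c : Perm (Fin 6)) : Finset (Perm (Fin 6)) := Finset.univ.filter fun u => sign u = 1 ∧
  (u * c * u⁻¹ = c ∨ u * c * u⁻¹ = c ^ 2 ∨ u * c * u⁻¹ = c ^ 3 ∨ u * c * u⁻¹ = c ^ 4)

theorem card_Nset_rep : (Nset (swap 0 1 * swap 1 2 * swap 2 3 * swap 3 4)).card = 10 := by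
  decide +kernel

theorem card_Nset {c : Perm (Fin 6)} (hc : orderOf c = 5) : (Nset c).card ≤ 10 := by
  have h5 : Fact (Nat.Prime 5) := ⟨Nat.prime_five⟩
  obtain ⟨n, hn⟩ := cycleType_prime_order (σ := c) (by rw [hc]; exact Nat.prime_five)
  rw [hc] at hn
  have hsum := sum_cycleType c
  have hle : c.support.card ≤ 6 := c.support.card_le_univ
  rw [hn, Multiset.sum_replicate, smul_eq_mul] at hsum
  have hn0 : n = 0 := by omega
  subst hn0
  have h1 : (swap 0 1 * swap 1 2 * swap 2 3 * swap 3 4 : Perm (Fin 6)).cycleType = Multiset.replicate (0 + 1) 5 := by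
    decide +kernel
  obtain ⟨g, hg⟩ := isConj_iff.1 (isConj_iff_cycleType_eq.2 (hn.trans h1.symm))
  rw [← card_Nset_rep]
  apply Finset.card_le_card_of_injOn (fun u => g * u * g⁻¹)
  · intro u hu
    have hu' := (Finset.mem_filter.1 hu).2
    refine Finset.mem_filter.2 ⟨Finset.mem_univ _, ?_, ?_⟩
    · rw [map_mul, map_mul, hu'.1, mul_one, ← map_mul, mul_inv_cancel, map_one]
    · have h2 : g * u * g⁻¹ * (swap 0 1 * swap 1 2 * swap 2 3 * swap 3 4) * (g * u * g⁻¹)⁻¹ = g * (u * c * u⁻¹) * g⁻¹ := by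
        rw [← hg]
        group
      rw [h2, ← hg, conj_pow, conj_pow, conj_pow]
      rcases hu'.2 with h | h | h | h <;> rw [h] <;> simp
  · intro u _ v _ huv
    exact mul_left_cancel (mul_right_cancel huv)

theorem zpowers_five {G : Type*} [Group G] [Finite G] {c x : G} (hc : orderOf c = 5) (hx : x ∈ Subgroup.zpowers c) (hx1 : x ≠ 1) :
    x = c ∨ x = c ^ 2 ∨ x = c ^ 3 ∨ x = c ^ 4 := by
  rw [← mem_powers_iff_mem_zpowers] at hx
  obtain ⟨k, rfl⟩ := hx
  change c ^ k ≠ 1 at hx1
  change c ^ k = _ ∨ c ^ k = _ ∨ c ^ k = _ ∨ c ^ k = _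
  rw [← pow_mod_orderOf, hc] at hx1 ⊢
  have h1 := Nat.mod_lt k (show 5 > 0 by norm_num)
  interval_cases h : k % 5
  · exact absurd (pow_zero c) hx1
  · left; exact pow_one c
  · right; left; rfl
  · right; right; left; rfl
  · right; right; right; rfl

/-- a `3'`-subgroup of `A₆` with an element of order `5` has only one subgroup of order `5` -/
theorem unique_five {H : Subgroup A6} (h3 : ¬ 3 ∣ Nat.card H) {c : A6} (hcH : c ∈ H) (hc : orderOf c = 5) {x : A6}
    (hxH : x ∈ H) (hx : orderOf x = 5) : x ∈ Subgroup.zpowers c := by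
  have hp5 : Fact (Nat.Prime 5) := ⟨Nat.prime_five⟩
  have h1 : Nat.card H ∣ 360 := card_A6 ▸ H.card_subgroup_dvd_card
  have h2 : Nat.card H ∣ 40 := by
    have h4 : Nat.card H ∣ 9 * 40 := h1
    refine Nat.Coprime.dvd_of_dvd_mul_left ?_ h4
    have h5 : Nat.Coprime 3 (Nat.card H) := (Nat.Prime.coprime_iff_not_dvd Nat.prime_three).2 h3
    exact (Nat.Coprime.pow_left 2 h5).symm
  have hsub : ∀ z ∈ H, orderOf z = 5 → ∃ P : Sylow 5 H, ∃ hz : z ∈ H, (⟨z, hz⟩ : H) ∈ P := by
    intro z hz ho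
    have h4 : IsPGroup 5 (Subgroup.zpowers (⟨z, hz⟩ : H)) := by
      apply IsPGroup.of_card (n := 1)
      rw [Nat.card_zpowers, ← Subgroup.orderOf_coe, pow_one]
      exact ho
    obtain ⟨P, hP⟩ := h4.exists_le_sylow
    exact ⟨P, hz, hP (Subgroup.mem_zpowers _)⟩
  have hcard : ∀ P : Sylow 5 H, Nat.card P = 5 := by
    intro P
    obtain ⟨n, hn⟩ := (IsPGroup.iff_card).1 P.isPGroup'
    have h4 : 5 ^ n ∣ 40 := hn ▸ (Subgroup.card_subgroup_dvd_card (P : Subgroup H)).trans h2
    have h5 : n ≤ 1 := by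
      by_contra h6
      push Not at h6
      have h7 : 5 ^ 2 ∣ 40 := (pow_dvd_pow 5 h6).trans h4
      exact absurd h7 (by decide)
    have h6 : 5 ∣ Nat.card P := by
      have h7 : 5 ∣ Nat.card H := by
        have h8 := orderOf_dvd_natCard (⟨c, hcH⟩ : H)
        rw [← Subgroup.orderOf_coe] at h8
        exact hc ▸ h8
      exact Sylow.dvd_card_of_dvd_card P h7
    rw [hn] at h6 ⊢
    have h7 : n ≠ 0 := by
      rintro rfl
      exact absurd h6 (by decide)
    have h8 : n = 1 := by omega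
    rw [h8, pow_one]
  have hone : Nat.card (Sylow 5 H) = 1 := by
    have h4 := card_sylow_modEq_one 5 H
    obtain ⟨P⟩ : Nonempty (Sylow 5 H) := inferInstance
    have h5 : Nat.card (Sylow 5 H) ∣ 8 := by
      have h6 := P.card_dvd_index
      have h7 := Subgroup.card_mul_index (P : Subgroup H)
      rw [hcard P] at h7
      have h8 : 5 * (P : Subgroup H).index ∣ 5 * 8 := by
        rw [h7]
        exact h2
      exact h6.trans (Nat.dvd_of_mul_dvd_mul_left (by norm_num) h8)
    have h6 := Nat.le_of_dvd (by norm_num) h5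
    unfold Nat.ModEq at h4
    interval_cases h : Nat.card (Sylow 5 H) <;> revert h4 h5 <;> decide
  have hss : Subsingleton (Sylow 5 H) := (Nat.card_eq_one_iff_unique.1 hone).1
  obtain ⟨P, hcH', hcP⟩ := hsub c hcH hc
  obtain ⟨P', hxH', hxP⟩ := hsub x hxH hx
  have hPP : P' = P := Subsingleton.elim _ _
  rw [hPP] at hxP
  have h4 : Subgroup.zpowers (⟨c, hcH'⟩ : H) = P := by
    apply Subgroup.eq_of_le_of_card_ge
    · rw [Subgroup.zpowers_le]
      exact hcP
    · rw [hcard P, Nat.card_zpowers, ← Subgroup.orderOf_coe]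
      exact hc.ge
  have h5 : (⟨x, hxH'⟩ : H) ∈ Subgroup.zpowers (⟨c, hcH'⟩ : H) := by
    rw [h4]
    exact hxP
  obtain ⟨k, hk⟩ := Subgroup.mem_zpowers_iff.1 h5
  refine Subgroup.mem_zpowers_iff.2 ⟨k, ?_⟩
  have h6 := congrArg Subtype.val hk
  exact h6

theorem mem_Nset {H : Subgroup A6} (h3 : ¬ 3 ∣ Nat.card H) {c : A6} (hcH : c ∈ H) (hc : orderOf c = 5) {u : A6}
    (hu : u * c * u⁻¹ ∈ H) : (u : Perm (Fin 6)) ∈ Nset c := by
  have ho : orderOf (u * c * u⁻¹) = 5 := hc ▸ (MulAut.conj u).orderOf_eq c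
  have h1 := unique_five h3 hcH hc hu ho
  have h2 : u * c * u⁻¹ ≠ 1 := by
    intro h
    rw [h, orderOf_one] at ho
    exact absurd ho (by decide)
  have h4 := zpowers_five hc h1 h2
  refine Finset.mem_filter.2 ⟨Finset.mem_univ _, mem_alternatingGroup.1 u.2, ?_⟩
  rcases h4 with h | h | h | h
  · exact Or.inl (congrArg Subtype.val h)
  · exact Or.inr (Or.inl (congrArg Subtype.val h))
  · exact Or.inr (Or.inr (Or.inl (congrArg Subtype.val h)))
  · exact Or.inr (Or.inr (Or.inr (congrArg Subtype.val h)))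

theorem card_le_ten {H : Subgroup A6} (h3 : ¬ 3 ∣ Nat.card H) {c : A6} (hcH : c ∈ H) (hc : orderOf c = 5) :
    Nat.card H ≤ 10 := by
  have hc' : orderOf (c : Perm (Fin 6)) = 5 := by rw [Subgroup.orderOf_coe]; exact hc
  refine le_trans ?_ (card_Nset hc')
  let f : H → Nset c := fun u => ⟨u, mem_Nset h3 hcH hc (H.mul_mem (H.mul_mem u.2 hcH) (H.inv_mem u.2))⟩
  have hf : Function.Injective f := by
    intro u v huv
    have h1 : ((u : A6) : Perm (Fin 6)) = ((v : A6) : Perm (Fin 6)) := congrArg (fun w : Nset c => (w : Perm (Fin 6))) huv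
    exact Subtype.ext (Subtype.ext h1)
  have h2 := Nat.card_le_card_of_injective f hf
  rwa [Nat.card_eq_fintype_card (α := Nset c), Fintype.card_coe] at h2

theorem core_y {y : MulAut A6} (hy : ¬ Pr y) {s : A6} (hs : orderOf s = 5) (hys : y s = s)
    (hcov : ∀ t : A6, MulAut.conj t * y * (MulAut.conj t)⁻¹ ∈ M ∨ MulAut.conj (t * s * t⁻¹) ∈ M) : GoodA M := by
  classical
  have hsimp := simple_A6
  set H : Subgroup A6 := M.comap (MulAut.conj : A6 →* MulAut A6) with hH
  have hmemH : ∀ t : A6, t ∈ H ↔ MulAut.conj t ∈ M := fun t => Iff.rfl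
  by_cases htop : H = ⊤
  · refine ⟨MulAction.stabilizer A6 (0 : Fin 6), index_stab (by norm_num) 0, fun k _ => ?_⟩
    rw [← hmemH, htop]
    trivial
  have hcore : H.normalCore = ⊥ := by
    rcases hsimp.eq_bot_or_eq_top_of_normal H.normalCore inferInstance with h | h
    · exact h
    · exact absurd (top_le_iff.1 (h ▸ H.normalCore_le)) htop
  have hcm : ∀ t u : A6, MulAut.conj t * y * (MulAut.conj t)⁻¹ * (MulAut.conj u * y * (MulAut.conj u)⁻¹)⁻¹ =
      MulAut.conj (t * y (t⁻¹ * u) * u⁻¹) := by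
    intro t u
    rw [map_mul, map_mul, conj_map, map_mul, map_inv, map_inv]
    group
  -- some conjugate of `s` lies in `H`
  obtain ⟨t0, ht0⟩ : ∃ t0 : A6, t0 * s * t0⁻¹ ∈ H := by
    by_contra hc
    push Not at hc
    have h1 : ∀ t : A6, MulAut.conj t * y * (MulAut.conj t)⁻¹ ∈ M := fun t => (hcov t).resolve_right (hc t)
    have h2 : ∀ t : A6, t * (y t)⁻¹ ∈ H := by
      intro t
      rw [hmemH]
      have h3 := M.mul_mem (h1 t) (M.inv_mem (h1 1))
      rw [hcm] at h3
      simpa using h3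
    apply hy
    have h3 : y = 1 := by
      apply MulEquiv.ext
      intro t
      have h4 : t * (y t)⁻¹ ∈ H.normalCore := by
        intro u
        have h5 := H.mul_mem (h2 (u * t)) (H.inv_mem (h2 u))
        have h6 : u * t * (y (u * t))⁻¹ * (u * (y u)⁻¹)⁻¹ = u * (t * (y t)⁻¹) * u⁻¹ := by
          rw [map_mul]
          group
        rwa [h6] at h5
      rw [hcore, Subgroup.mem_bot, mul_inv_eq_one] at h4
      exact h4.symm
    rw [h3]
    exact fun x hx => hx
  -- some conjugate of `y` lies in `M`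
  obtain ⟨t1, ht1⟩ : ∃ t1 : A6, MulAut.conj t1 * y * (MulAut.conj t1)⁻¹ ∈ M := by
    by_contra hc
    push Not at hc
    have h1 : s ∈ H.normalCore := fun t => (hcov t).resolve_left (hc t)
    rw [hcore, Subgroup.mem_bot] at h1
    rw [h1, orderOf_one] at hs
    exact absurd hs (by decide)
  set y1 := MulAut.conj t1 * y * (MulAut.conj t1)⁻¹ with hy1
  have hy1pr : ¬ Pr y1 := by
    intro h
    apply hy
    have h1 : y = (MulAut.conj t1)⁻¹ * y1 * MulAut.conj t1 := by
      rw [hy1]
      group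
    rw [h1, ← map_inv, ← cn_coe, ← cn_coe]
    exact pr_mul' (pr_mul' (pr_cn' _) h) (pr_cn' _)
  have hinv : ∀ h ∈ H, y1 h ∈ H := by
    intro h hh
    rw [hmemH, conj_map]
    exact M.mul_mem (M.mul_mem ht1 hh) (M.inv_mem ht1)
  set c := t0 * s * t0⁻¹ with hc
  have hco : orderOf c = 5 := hs ▸ (MulAut.conj t0).orderOf_eq s
  by_cases h3 : 3 ∣ Nat.card H
  · -- an element of order `3`
    have hp3 : Fact (Nat.Prime 3) := ⟨Nat.prime_three⟩
    obtain ⟨x, hx⟩ := exists_prime_orderOf_dvd_card' 3 h3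
    have hx' : orderOf (x : A6) = 3 := by rw [Subgroup.orderOf_coe]; exact hx
    obtain ⟨d, hdH, hd⟩ : ∃ d ∈ H, T3 d := by
      rcases T3_or_Q3 hx' with h | h
      · exact ⟨x, x.2, h⟩
      · refine ⟨y1 x, hinv _ x.2, ?_⟩
        rcases map_Q3 (α := y1) h with h1 | h1
        · exact h1
        · exact absurd (pr_of_Q3 h h1) hy1pr
    obtain ⟨i, hi⟩ := five_three (P := H.map (alternatingGroup (Fin 6)).subtype) (c := c) (d := d)
      (by rw [Subgroup.orderOf_coe]; exact hco) ⟨c, ht0, rfl⟩ hd ⟨d, hdH, rfl⟩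
    refine ⟨MulAction.stabilizer A6 i, index_stab (by norm_num) i, fun k hk => ?_⟩
    obtain ⟨z, hz, hzk⟩ := hi k (mem_alternatingGroup.1 k.2) hk
    have h1 : z = k := Subtype.ext hzk
    rw [← hmemH, ← h1]
    exact hz
  · exfalso
    -- counting
    let C : Subgroup A6 :=
      { carrier := {t | y t = t}
        one_mem' := map_one y
        mul_mem' := fun {a b} ha hb => by
          change y (a * b) = a * b
          rw [map_mul, ha, hb]
        inv_mem' := fun {a} ha => by
          change y a⁻¹ = a⁻¹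
          rw [map_inv, ha] }
    have hC3 : ¬ 3 ∣ Nat.card C := by
      intro h
      have hp3 : Fact (Nat.Prime 3) := ⟨Nat.prime_three⟩
      obtain ⟨x, hx⟩ := exists_prime_orderOf_dvd_card' 3 h
      have hx' : orderOf (x : A6) = 3 := by rw [Subgroup.orderOf_coe]; exact hx
      have h1 : y x = x := x.2
      rcases T3_or_Q3 hx' with h | h
      · exact hy (pr_of_T3 h (by rw [h1]; exact h))
      · exact hy (pr_of_Q3 h (by rw [h1]; exact h))
    have hC10 : Nat.card C ≤ 10 := card_le_ten hC3 (c := s) hys hs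
    have hH10 : Nat.card H ≤ 10 := card_le_ten h3 ht0 hco
    let A : Finset A6 := Finset.univ.filter fun t => t * s * t⁻¹ ∈ H
    let B : Finset A6 := Finset.univ.filter fun t => MulAut.conj t * y * (MulAut.conj t)⁻¹ ∈ M
    have hAB : (Finset.univ : Finset A6) ⊆ A ∪ B := by
      intro t _
      rcases hcov t with h | h
      · exact Finset.mem_union_right _ (Finset.mem_filter.2 ⟨Finset.mem_univ _, h⟩)
      · exact Finset.mem_union_left _ (Finset.mem_filter.2 ⟨Finset.mem_univ _, h⟩)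
    have hA : A.card ≤ 10 := by
      have hc' : orderOf (c : Perm (Fin 6)) = 5 := by rw [Subgroup.orderOf_coe]; exact hco
      refine le_trans ?_ (card_Nset hc')
      apply Finset.card_le_card_of_injOn (fun t : A6 => ((t * t0⁻¹ : A6) : Perm (Fin 6)))
      · intro t ht
        have ht' := (Finset.mem_filter.1 ht).2
        apply mem_Nset h3 ht0 hco
        have h1 : t * t0⁻¹ * c * (t * t0⁻¹)⁻¹ = t * s * t⁻¹ := by
          rw [hc]
          group
        rwa [h1]
      · intro t _ u _ htu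
        have h1 : t * t0⁻¹ = u * t0⁻¹ := Subtype.ext htu
        exact mul_right_cancel h1
    have hB : B.card ≤ 100 := by
      have h1 : B.card ≤ 10 * (B.image fun t => t * y (t⁻¹ * t1) * t1⁻¹).card := by
        apply Finset.card_le_mul_card_image
        intro b hb
        obtain ⟨u, hu, hub⟩ := Finset.mem_image.1 hb
        refine le_trans ?_ hC10
        have h2 : Nat.card C = (Finset.univ.filter fun t : A6 => y t = t).card := by
          have h5 : Nat.card C = Nat.card {t : A6 // y t = t} := rfl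
          rw [h5, Nat.card_eq_fintype_card, Fintype.card_subtype]
        rw [h2]
        apply Finset.card_le_card_of_injOn (fun t : A6 => u⁻¹ * t)
        · intro t ht
          have ht' := (Finset.mem_filter.1 ht).2
          refine Finset.mem_filter.2 ⟨Finset.mem_univ _, ?_⟩
          rw [← hub] at ht'
          have h3 : t * y (t⁻¹ * t1) = u * y (u⁻¹ * t1) := mul_right_cancel ht'
          rw [map_mul, map_mul, ← mul_assoc, ← mul_assoc] at h3
          have h4 : t * y t⁻¹ = u * y u⁻¹ := mul_right_cancel h3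
          rw [map_inv, map_inv] at h4
          rw [map_mul, map_inv]
          rw [mul_inv_eq_iff_eq_mul] at h4
          have h5 : (y u)⁻¹ * y t = u⁻¹ * (u * (y u)⁻¹ * y t) := by group
          rw [h5, ← h4]
        · intro t _ v _ htv
          exact mul_left_cancel htv
      have h2 : (B.image fun t => t * y (t⁻¹ * t1) * t1⁻¹).card ≤ 10 := by
        have h3 : Nat.card H = (Finset.univ.filter fun t : A6 => t ∈ H).card := by
          rw [Nat.card_eq_fintype_card, Fintype.card_subtype]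
        refine le_trans ?_ hH10
        rw [h3]
        apply Finset.card_le_card
        intro b hb
        obtain ⟨t, ht, rfl⟩ := Finset.mem_image.1 hb
        refine Finset.mem_filter.2 ⟨Finset.mem_univ _, ?_⟩
        have ht' := (Finset.mem_filter.1 ht).2
        rw [hmemH, ← hcm]
        exact M.mul_mem ht' (M.inv_mem ht1)
      calc B.card ≤ 10 * (B.image fun t => t * y (t⁻¹ * t1) * t1⁻¹).card := h1
        _ ≤ 10 * 10 := Nat.mul_le_mul_left _ h2
        _ = 100 := by norm_num
    have h4 := (Finset.card_le_card hAB).trans (Finset.card_union_le A B)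
    rw [Finset.card_univ, ← Nat.card_eq_fintype_card, card_A6] at h4
    omega

/-- **the case `g ∉ S₆`** -/
theorem good_not_pr (h : CovA M α) (hα : ¬ Pr α) {r₁ r₂ : ℕ} (hr₁ : r₁.Prime) (hr₂ : r₂.Prime)
    (hlt : r₁ < r₂) (hd₁ : r₁ ∣ orderOf α) (hd₂ : r₂ ∣ orderOf α) : GoodA M := by
  have hpos : 0 < orderOf α := orderOf_pos α
  obtain ⟨ρ, hρ⟩ := pr_cn (pr_mul hα hα)
  have key : ∀ r : ℕ, r.Prime → r ≠ 2 → r ∣ orderOf α → ∃ s : A6, orderOf s = r ∧
      α ^ (orderOf α / r) = MulAut.conj s ∧ α s = s := by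
    intro r hr hr2 hd
    have hodd : r % 2 = 1 := by
      rcases hr.eq_two_or_odd with h | h
      · exact absurd h hr2
      · exact h
    set x := α ^ (orderOf α / r) with hx
    have hxo : orderOf x = r := orderOf_pow_orderOf_div hpos.ne' hd
    set σ := ρ ^ ((orderOf α / r) * ((r + 1) / 2)) with hσ
    have hxσ : cn σ = x := by
      rw [hσ, map_pow, hρ, ← sq, ← pow_mul, mul_left_comm, pow_mul, ← hx]
      have h1 : 2 * ((r + 1) / 2) = r + 1 := by omega
      rw [h1, pow_succ, ← hxo, pow_orderOf_eq_one, one_mul]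
    have hσo : orderOf σ = r := by rw [← orderOf_injective cn cn_inj σ, hxσ, hxo]
    have hsign : sign σ = 1 := by
      have h1 : sign σ ^ r = 1 := by rw [← map_pow, ← hσo, pow_orderOf_eq_one, map_one]
      rcases Int.units_eq_one_or (sign σ) with h2 | h2
      · exact h2
      · rw [h2, Odd.neg_one_pow (Nat.odd_iff.2 hodd)] at h1
        exact absurd h1 (by decide)
    refine ⟨⟨σ, mem_alternatingGroup.2 hsign⟩, by rw [← Subgroup.orderOf_coe]; exact hσo, ?_, ?_⟩
    · rw [← cn_coe, ← hxσ]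
    · have h1 : cn ((α ⟨σ, mem_alternatingGroup.2 hsign⟩ : A6) : Perm (Fin 6)) = cn σ := by
        rw [cn_coe, conj_map, ← cn_coe, hxσ, hx]
        group
      exact Subtype.ext (cn_inj h1)
  have hno3 : ¬ 3 ∣ orderOf α := by
    intro hd
    obtain ⟨s, hs, -, hαs⟩ := key 3 Nat.prime_three (by norm_num) hd
    rcases T3_or_Q3 hs with h1 | h1
    · exact hα (pr_of_T3 h1 (by rw [hαs]; exact h1))
    · exact hα (pr_of_Q3 h1 (by rw [hαs]; exact h1))
  have hprimes : ∀ r : ℕ, r.Prime → r ∣ orderOf α → r = 2 ∨ r = 5 := by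
    intro r hr hd
    by_cases hr2 : r = 2
    · exact Or.inl hr2
    right
    obtain ⟨s, hs, -, -⟩ := key r hr hr2 hd
    have h1 : r ∣ 360 := by
      rw [← hs, ← card_A6]
      exact orderOf_dvd_natCard s
    have h2 : r ∣ 2 ^ 3 * (3 ^ 2 * 5) := h1
    rcases (hr.dvd_mul).1 h2 with h3 | h3
    · exact absurd ((Nat.prime_dvd_prime_iff_eq hr Nat.prime_two).1 (hr.dvd_of_dvd_pow h3)) hr2
    · rcases (hr.dvd_mul).1 h3 with h4 | h4
      · have h5 := (Nat.prime_dvd_prime_iff_eq hr Nat.prime_three).1 (hr.dvd_of_dvd_pow h4)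
        exact absurd (h5 ▸ hd) hno3
      · exact (Nat.prime_dvd_prime_iff_eq hr Nat.prime_five).1 h4
  have h25 : r₁ = 2 ∧ r₂ = 5 := by
    rcases hprimes r₁ hr₁ hd₁ with h1 | h1 <;> rcases hprimes r₂ hr₂ hd₂ with h2 | h2 <;> omega
  obtain ⟨rfl, rfl⟩ := h25
  obtain ⟨s, hs, hxs, hαs⟩ := key 5 hr₂ (by norm_num) hd₂
  set y := α ^ (orderOf α / 2) with hy
  have hyo : orderOf y = 2 := orderOf_pow_orderOf_div hpos.ne' hd₁
  have hys : y s = s := by
    have h1 : ∀ n : ℕ, (α ^ n) s = s := by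
      intro n
      induction n with
      | zero => rfl
      | succ n ih => rw [pow_succ, MulAut.mul_apply, hαs, ih]
    exact h1 _
  have hypr : ¬ Pr y := by
    intro hpr
    obtain ⟨τ, hτ⟩ := pr_cn hpr
    have hτo : orderOf τ = 2 := by rw [← orderOf_injective cn cn_inj τ, hτ, hyo]
    have hso : orderOf (s : Perm (Fin 6)) = 5 := by rw [Subgroup.orderOf_coe]; exact hs
    have hcomm : Commute τ (s : Perm (Fin 6)) := by
      have h1 := congrArg Subtype.val hys
      rw [← hτ, cn_apply, mul_inv_eq_iff_eq_mul] at h1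
      exact h1
    have ho : orderOf (τ * (s : Perm (Fin 6))) = 10 := by
      rw [hcomm.orderOf_mul_eq_mul_orderOf_of_coprime (by rw [hτo, hso]; decide), hτo, hso]
    have h1 := lcm_cycleType (τ * (s : Perm (Fin 6)))
    rcases type_six (σ := τ * (s : Perm (Fin 6))) Nat.prime_two Nat.prime_five (by norm_num) (by rw [ho]; norm_num)
      (by rw [ho]; norm_num) with h2 | h2 <;>
    · rw [ho, h2] at h1
      exact absurd h1 (by decide)
  apply core_y hypr hs hys
  intro t
  obtain ⟨r, hr, hd, hm⟩ := h t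
  rcases hprimes r hr hd with rfl | rfl
  · exact Or.inl hm
  · right
    rw [hxs, ← map_inv, ← map_mul, ← map_mul] at hm
    exact hm

/-- **`T = A₆`** -/
theorem exc_six {G : Type*} [Group G] [Finite G] {Ω : Type*} [Fintype Ω] [MulAction G Ω] [FaithfulSMul G Ω]
    (T : Subgroup G) [T.Normal] (e : T ≃* alternatingGroup (Fin 6))
    (hC : Subgroup.centralizer (T : Set G) = ⊥) (hprim : MulAction.IsPreprimitive G Ω) (g : G)
    (hg : ∀ ω : Ω, MulAction.stabilizer (Subgroup.zpowers g) ω ≠ ⊥) : Fintype.card Ω = 6 := by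
  set ψ : G →* MulAut A6 := (MulAut.congr e).toMonoidHom.comp (MulAut.conjNormal : G →* MulAut T) with hψ
  have hinj : Function.Injective ψ := by
    rw [injective_iff_map_eq_one]
    intro g hg
    have h4 : (MulAut.conjNormal g : MulAut T) = 1 := (MulAut.congr e).injective (by
      rw [map_one]
      exact hg)
    have h5 : g ∈ Subgroup.centralizer (T : Set G) := by
      rw [Subgroup.mem_centralizer_iff]
      intro k hk
      have h6 := MulAut.conjNormal_apply (H := T) g ⟨k, hk⟩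
      rw [h4, MulAut.one_apply] at h6
      change k = g * k * g⁻¹ at h6
      nth_rewrite 1 [h6]
      rw [inv_mul_cancel_right]
    rw [hC, Subgroup.mem_bot] at h5
    exact h5
  have hψT : ∀ k : T, ψ k = MulAut.conj (e k) := by
    intro k
    rw [hψ]
    apply MulEquiv.ext
    intro x
    change (MulAut.congr e) (MulAut.conjNormal (k : G)) x = _
    rw [MulAut.conjNormal_val]
    have h3 : (MulAut.congr e) (MulAut.conj k) x = e (MulAut.conj k (e.symm x)) := rfl
    rw [h3, MulAut.conj_apply, map_mul, map_mul, map_inv, e.apply_symm_apply, MulAut.conj_apply]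
  have hsimp := simple_A6
  have hT : Nontrivial T := e.toEquiv.nontrivial
  obtain ⟨t0, ht0⟩ := exists_ne (1 : T)
  have hex : ∃ ω : Ω, (t0 : G) • ω ≠ ω := by
    by_contra hno
    push Not at hno
    apply ht0
    apply Subtype.ext
    apply eq_of_smul_eq_smul (α := Ω)
    intro ω
    rw [hno ω]; simp
  obtain ⟨ω0, hω0⟩ := hex
  have hne : Nonempty Ω := ⟨ω0⟩
  obtain ⟨r₁, r₂, hr₁, hr₂, hlt, hd₁, hd₂⟩ := exists_two_primes g hg
  have ho : orderOf (ψ g) = orderOf g := orderOf_injective ψ hinj g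
  have hcov : CovA ((MulAction.stabilizer G ω0).map ψ) (ψ g) := by
    intro a
    set k : T := e.symm a with hk
    have hka : ψ k = MulAut.conj a := by
      rw [hψT, hk, e.apply_symm_apply]
    obtain ⟨r, hr, hd, hω⟩ := exists_prime_pow (hg ((k : G)⁻¹ • ω0))
    refine ⟨r, hr, by rwa [ho], (k : G) * g ^ (orderOf g / r) * (k : G)⁻¹, ?_, ?_⟩
    · change ((k : G) * g ^ (orderOf g / r) * (k : G)⁻¹) • ω0 = ω0
      rw [mul_smul, mul_smul, hω, smul_inv_smul]
    · rw [map_mul, map_mul, map_inv, map_pow, hka, ho]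
  have hgood : GoodA ((MulAction.stabilizer G ω0).map ψ) := by
    by_cases hp : Pr (ψ g)
    · exact good_pr hcov hp hr₁ hr₂ hlt (by rwa [ho]) (by rwa [ho])
    · exact good_not_pr hcov hp hr₁ hr₂ hlt (by rwa [ho]) (by rwa [ho])
  obtain ⟨K, hK, hm⟩ := hgood
  have hle : K.comap e.toMonoidHom ≤ MulAction.stabilizer T ω0 := by
    intro k hk
    obtain ⟨y, hy, hyk⟩ := hm (e k) hk
    rw [← hψT] at hyk
    have h1 := hinj hyk
    have h2 : y • ω0 = ω0 := hy
    rw [h1] at h2
    exact h2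
  have hquasi : MulAction.IsQuasiPreprimitive G Ω := inferInstance
  have htr : MulAction.IsPretransitive T Ω := by
    apply MulAction.IsQuasiPreprimitive.isPretransitive_of_normal
    intro h
    have h1 : ω0 ∈ MulAction.fixedPoints T Ω := by
      rw [h]
      trivial
    exact hω0 (h1 t0)
  have h1 := Subgroup.index_dvd_of_le hle
  rw [MulAction.index_stabilizer_of_transitive, Subgroup.index_comap_of_surjective _ e.surjective,
    hK, Nat.card_eq_fintype_card] at h1
  by_contra h6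
  have h2 : Fintype.card Ω ≤ 3 := by
    have h3 := Nat.le_of_dvd (by norm_num) h1
    interval_cases h : Fintype.card Ω <;> revert h1 h6 <;> decide
  have h3 : Function.Injective (MulAction.toPermHom T Ω) := by
    intro a b hab
    apply Subtype.ext
    apply eq_of_smul_eq_smul (α := Ω)
    intro ω
    exact DFunLike.congr_fun hab ω
  have h4 := Nat.card_le_card_of_injective _ h3
  rw [Nat.card_congr e.toEquiv, card_A6, Nat.card_perm, Nat.card_eq_fintype_card] at h4
  have h5 := Nat.factorial_le h2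
  have h6 : Nat.factorial 3 = 6 := rfl
  omega

end Cfsg.Agent.H390.RC
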