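import Mathlib

/-!
# S3510, EXC: subgroups of symmetric groups with many three-cycles (helper390)
-/

set_option autoImplicit false

namespace Cfsg.Agent.H390.RC

open Equiv Equiv.Perm

section via

variable {α β : Type*} [DecidableEq α] [DecidableEq β]

theorem via_swap (x : α ↪ β) (i j : α) : (swap i j).viaEmbedding x = swap (x i) (x j) := by
  ext z
  by_cases hz : z ∈ Set.range x
  · obtain ⟨k, rfl⟩ := hz
    rw [Perm.viaEmbedding_apply]
    by_cases h1 : k = i
    · rw [h1, swap_apply_left, swap_apply_left]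
    · by_cases h2 : k = j
      · rw [h2, swap_apply_right, swap_apply_right]
      · rw [swap_apply_of_ne_of_ne h1 h2, swap_apply_of_ne_of_ne (x.injective.ne h1) (x.injective.ne h2)]
  · rw [Perm.viaEmbedding_apply_of_notMem _ _ _ hz, swap_apply_of_ne_of_ne]
    · rintro rfl
      exact hz ⟨i, rfl⟩
    · rintro rfl
      exact hz ⟨j, rfl⟩

end via

variable {α : Type*} [DecidableEq α]

/-- the three-cycle `(a b c)` -/
def cy (a b c : α) : Perm α := swap a b * swap b c

instance {n : ℕ} (a b c : Fin n) (σ : Perm (Fin n)) : Decidable (cy a b c = σ) := inferInstanceAs (Decidable (_ = _))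

theorem cy_conj (σ : Perm α) (a b c : α) : σ * cy a b c * σ⁻¹ = cy (σ a) (σ b) (σ c) := by
  unfold cy
  rw [swap_apply_apply, swap_apply_apply]
  group

theorem swap_conj (σ : Perm α) (a b : α) : σ * swap a b * σ⁻¹ = swap (σ a) (σ b) := (swap_apply_apply σ a b).symm

theorem cy_inv (a b c : α) : (cy a b c)⁻¹ = cy c b a := by
  unfold cy
  rw [mul_inv_rev, swap_inv, swap_inv, swap_comm b c, swap_comm a b]

theorem via_cy {β : Type*} [DecidableEq β] (x : β ↪ α) (i j k : β) :
    viaEmbeddingHom x (cy i j k) = cy (x i) (x j) (x k) := by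
  unfold cy
  rw [map_mul, viaEmbeddingHom_apply, viaEmbeddingHom_apply, via_swap, via_swap]

theorem cy_rot {a b c : α} (hab : a ≠ b) (hbc : b ≠ c) (hac : a ≠ c) : cy a b c = cy b c a := by
  let x : Fin 3 ↪ α := ⟨![a, b, c], by
    intro i j h
    fin_cases i <;> fin_cases j <;> simp_all [eq_comm]⟩
  have h : cy (0 : Fin 3) 1 2 = cy 1 2 0 := by decide
  have h1 := congrArg (viaEmbeddingHom x) h
  rw [via_cy, via_cy] at h1
  exact h1

theorem cy_word4 {M : Subgroup (Perm α)} {a b c x : α} (hab : a ≠ b) (hbc : b ≠ c) (hac : a ≠ c) (hxa : x ≠ a)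
    (hxb : x ≠ b) (hxc : x ≠ c) (h1 : cy a b x ∈ M) (h2 : cy b c x ∈ M) : cy a b c ∈ M := by
  let e : Fin 4 ↪ α := ⟨![a, b, c, x], by
    intro i j h
    fin_cases i <;> fin_cases j <;> simp_all [eq_comm]⟩
  have h : cy (0 : Fin 4) 1 3 * cy 1 2 3 = cy 0 1 2 := by decide
  have h3 := congrArg (viaEmbeddingHom e) h
  rw [map_mul, via_cy, via_cy, via_cy] at h3
  have h4 : cy a b x * cy b c x = cy a b c := h3
  rw [← h4]
  exact M.mul_mem h1 h2

theorem cy_word5 {M : Subgroup (Perm α)} {a b c x y : α} (hab : a ≠ b) (hbc : b ≠ c) (hac : a ≠ c) (hxa : x ≠ a)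
    (hxb : x ≠ b) (hxc : x ≠ c) (hya : y ≠ a) (hyb : y ≠ b) (hyc : y ≠ c) (hxy : x ≠ y) (h1 : cy a b x ∈ M)
    (h2 : cy b c y ∈ M) : cy a b c ∈ M := by
  let e : Fin 5 ↪ α := ⟨![a, b, c, x, y], by
    intro i j h
    fin_cases i <;> fin_cases j <;> simp_all [eq_comm]⟩
  have h : cy (1 : Fin 5) 2 4 * (cy 0 1 3)⁻¹ * (cy 1 2 4)⁻¹ * cy 0 1 3 = cy 0 1 2 := by decide
  have h3 := congrArg (viaEmbeddingHom e) h
  rw [map_mul, map_mul, map_mul, map_inv, map_inv, via_cy, via_cy, via_cy] at h3
  have h4 : cy b c y * (cy a b x)⁻¹ * (cy b c y)⁻¹ * cy a b x = cy a b c := h3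
  rw [← h4]
  exact M.mul_mem (M.mul_mem (M.mul_mem h2 (M.inv_mem h1)) (M.inv_mem h2)) h1

/-- `a`, `b` lie in a common three-cycle of `M`, or are equal -/
def Rel (M : Subgroup (Perm α)) (a b : α) : Prop := a = b ∨ ∃ c, c ≠ a ∧ c ≠ b ∧ a ≠ b ∧ cy a b c ∈ M

variable {M : Subgroup (Perm α)}

theorem Rel.refl (a : α) : Rel M a a := Or.inl rfl

theorem Rel.symm {a b : α} (h : Rel M a b) : Rel M b a := by
  rcases h with h | ⟨c, hca, hcb, hab, h⟩
  · exact Or.inl h.symm
  · refine Or.inr ⟨c, hcb, hca, hab.symm, ?_⟩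
    have h1 := M.inv_mem h
    rw [cy_inv, cy_rot hcb hab.symm hca] at h1
    exact h1

theorem tri {a b c : α} (hab : a ≠ b) (hbc : b ≠ c) (hac : a ≠ c) (h1 : Rel M a b) (h2 : Rel M b c) :
    cy a b c ∈ M := by
  obtain ⟨x, hxa, hxb, -, hx⟩ := h1.resolve_left hab
  obtain ⟨y, hyb, hyc, -, hy⟩ := h2.resolve_left hbc
  by_cases h3 : x = c
  · rwa [h3] at hx
  by_cases h4 : y = a
  · rw [h4] at hy
    rwa [cy_rot hab hbc hac]
  by_cases h5 : x = y
  · subst h5
    exact cy_word4 hab hbc hac hxa hxb h3 hx hy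
  · exact cy_word5 hab hbc hac hxa hxb h3 h4 hyb hyc h5 hx hy

theorem Rel.trans {a b c : α} (h1 : Rel M a b) (h2 : Rel M b c) : Rel M a c := by
  by_cases hab : a = b
  · rwa [hab]
  by_cases hbc : b = c
  · rwa [← hbc]
  by_cases hac : a = c
  · exact Or.inl hac
  · refine Or.inr ⟨b, Ne.symm hab, hbc, hac, ?_⟩
    have h3 := tri hab hbc hac h1 h2
    have h4 := M.inv_mem h3
    rw [cy_inv, cy_rot (Ne.symm hbc) (Ne.symm hab) (Ne.symm hac), cy_rot (Ne.symm hab) hac hbc] at h4
    exact h4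

theorem Rel.of_cy {a b c : α} (hab : a ≠ b) (hbc : b ≠ c) (hac : a ≠ c) (h : cy a b c ∈ M) : Rel M a b :=
  Or.inr ⟨c, Ne.symm hac, Ne.symm hbc, hab, h⟩

theorem Rel.of_cy' {a b c : α} (hab : a ≠ b) (hbc : b ≠ c) (hac : a ≠ c) (h : cy a b c ∈ M) : Rel M b c := by
  rw [cy_rot hab hbc hac] at h
  exact Rel.of_cy hbc hac.symm hab.symm h

/-- the even permutations fixing `i` lie in `M` -/
def Good [Fintype α] (M : Subgroup (Perm α)) : Prop := ∃ i : α, ∀ σ : Perm α, sign σ = 1 → σ i = i → σ ∈ M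

theorem good_of_rel [Fintype α] (i : α) (h : ∀ a b : α, a ≠ i → b ≠ i → Rel M a b) : Good M := by
  refine ⟨i, fun σ hσ hi => ?_⟩
  have h1 : ∀ x, σ x ≠ i ↔ x ≠ i := by
    intro x
    rw [not_iff_not]
    constructor
    · intro hx
      exact σ.injective (hx.trans hi.symm)
    · rintro rfl
      exact hi
  let τ : Perm {x // x ≠ i} := σ.subtypePerm h1
  have h2 : ofSubtype τ = σ := ofSubtype_subtypePerm h1 (fun x hx => by
    rintro rfl
    exact hx hi)
  have h3 : τ ∈ alternatingGroup {x // x ≠ i} := by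
    rw [mem_alternatingGroup, ← sign_ofSubtype, h2, hσ]
  rw [← closure_three_cycles_eq_alternating] at h3
  have h4 : Subgroup.closure {σ : Perm {x // x ≠ i} | IsThreeCycle σ} ≤ M.comap ofSubtype := by
    rw [Subgroup.closure_le]
    intro ρ hρ
    have hne : ρ ≠ 1 := IsThreeCycle.ne_one hρ
    obtain ⟨a, ha⟩ : ∃ a, ρ a ≠ a := by
      by_contra hc
      push Not at hc
      exact hne (Equiv.ext hc)
    have ha' : a ∈ ρ.support := mem_support.2 ha
    have h5 := (IsThreeCycle.eq_swap_mul_swap_iff_mem_support hρ).2 ha'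
    have h6 := (IsThreeCycle.nodup_iff_mem_support hρ).2 ha'
    have h7 : a ≠ ρ a := Ne.symm ha
    have h8 : ρ a ≠ ρ (ρ a) := fun h => ha (ρ.injective h).symm
    have h9 : a ≠ ρ (ρ a) := by
      intro h
      simp at h6
      exact h6.1.2 h
    change ofSubtype ρ ∈ M
    have h10 : ofSubtype ρ = cy (a : α) (ρ a : α) (ρ (ρ a) : α) := by
      conv_lhs => rw [h5]
      unfold cy
      rw [map_mul, ofSubtype_swap_eq, ofSubtype_swap_eq]
    rw [h10]
    exact tri (fun h => h7 (Subtype.ext h)) (fun h => h8 (Subtype.ext h)) (fun h => h9 (Subtype.ext h))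
      (h _ _ a.2 (ρ a).2) (h _ _ (ρ a).2 (ρ (ρ a)).2)
  have h5 := h4 h3
  rw [Subgroup.mem_comap, h2] at h5
  exact h5

/-! ### The graph arguments -/

theorem exists_notMem [Fintype α] (s : Finset α) (h : s.card < Fintype.card α) : ∃ x, x ∉ s := by
  by_contra hc
  push Not at hc
  have h1 : s = Finset.univ := Finset.eq_univ_of_forall hc
  rw [h1, Finset.card_univ] at h
  exact lt_irrefl _ h

/-- (II) -/
theorem good_two [Fintype α] (h5 : 5 ≤ Fintype.card α)
    (h : ∀ p q s t u : α, [p, q, s, t, u].Nodup → swap p q ∈ M ∨ cy s t u ∈ M) : Good M := by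
  have hex : ∀ a b c d : α, ∃ e, e ≠ a ∧ e ≠ b ∧ e ≠ c ∧ e ≠ d := by
    intro a b c d
    obtain ⟨e, he⟩ := exists_notMem ({a, b, c, d} : Finset α) (lt_of_le_of_lt Finset.card_le_four (by omega))
    simp only [Finset.mem_insert, Finset.mem_singleton, not_or] at he
    exact ⟨e, he⟩
  have hrel : ∀ a b : α, a ≠ b → swap a b ∉ M → ∀ s t : α, s ≠ a → s ≠ b → t ≠ a → t ≠ b → Rel M s t := by
    intro a b hab hM s t hsa hsb hta htb
    by_cases hst : s = t
    · exact Or.inl hst
    obtain ⟨u, hua, hub, hus, hut⟩ := hex a b s t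
    have h1 := (h a b s t u (by
      simp only [List.nodup_cons, List.mem_cons, List.not_mem_nil, or_false, not_or, not_false_eq_true,
        List.nodup_nil, and_true]
      exact ⟨⟨hab, hsa.symm, hta.symm, hua.symm⟩, ⟨hsb.symm, htb.symm, hub.symm⟩, ⟨hst, hus.symm⟩, hut.symm⟩)).resolve_left hM
    exact Rel.of_cy hst hut.symm hus.symm h1
  by_cases hall : ∀ a b : α, a ≠ b → swap a b ∈ M
  · obtain ⟨i, -⟩ := exists_notMem (∅ : Finset α) (by rw [Finset.card_empty]; omega)
    refine good_of_rel i fun a b _ _ => ?_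
    by_cases hab : a = b
    · exact Or.inl hab
    obtain ⟨c, hca, hcb, -⟩ := hex a b a b
    exact Rel.of_cy hab hcb.symm hca.symm (M.mul_mem (hall _ _ hab) (hall _ _ hcb.symm))
  · push Not at hall
    obtain ⟨a, b, hab, hM⟩ := hall
    have hY := hrel a b hab hM
    obtain ⟨c, hca, hcb, -⟩ := hex a b a b
    obtain ⟨d, hda, hdb, hdc, -⟩ := hex a b c c
    obtain ⟨e, hea, heb, hec, hed⟩ := hex a b c d
    by_cases h1 : swap a c ∈ M
    · by_cases h2 : swap c d ∈ M
      · have h3 : Rel M a c := Rel.of_cy hca.symm hdc.symm hda.symm (M.mul_mem h1 h2)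
        have h4 : ∀ p : α, p ≠ b → Rel M p c := by
          intro p hp
          by_cases hpa : p = a
          · rw [hpa]
            exact h3
          · exact hY p c hpa hp hca hcb
        exact good_of_rel b fun x y hx hy => (h4 x hx).trans (h4 y hy).symm
      · have h3 := hrel c d hdc.symm h2
        have h4 : ∀ p : α, Rel M p e := by
          intro p
          by_cases hpa : p = a
          · rw [hpa]
            exact h3 a e hca.symm hda.symm hec hed
          by_cases hpb : p = b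
          · rw [hpb]
            exact h3 b e hcb.symm hdb.symm hec hed
          exact hY p e hpa hpb hea heb
        exact good_of_rel a fun x y _ _ => (h4 x).trans (h4 y).symm
    · have h3 := hrel a c hca.symm h1
      have h4 : ∀ p : α, p ≠ a → Rel M p d := by
        intro p hp
        by_cases hpb : p = b
        · rw [hpb]
          exact h3 b d hab.symm hcb.symm hda hdc
        · exact hY p d hp hpb hda hdb
      exact good_of_rel a fun x y hx hy => (h4 x hx).trans (h4 y hy).symm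

/-- (I) -/
theorem good_three [Fintype α] (h8 : 8 ≤ Fintype.card α)
    (h : ∀ p q r s t u : α, [p, q, r, s, t, u].Nodup → cy p q r ∈ M ∨ cy s t u ∈ M) : Good M := by
  have hex : ∀ a b c d e f : α, ∃ g, g ≠ a ∧ g ≠ b ∧ g ≠ c ∧ g ≠ d ∧ g ≠ e ∧ g ≠ f := by
    intro a b c d e f
    obtain ⟨g, hg⟩ := exists_notMem ({a, b, c, d, e, f} : Finset α) (lt_of_le_of_lt Finset.card_le_six (by omega))
    simp only [Finset.mem_insert, Finset.mem_singleton, not_or] at hg
    exact ⟨g, hg⟩
  have hrel : ∀ a b c : α, a ≠ b → b ≠ c → a ≠ c → cy a b c ∉ M → ∀ s t : α, s ≠ a → s ≠ b → s ≠ c → t ≠ a →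
      t ≠ b → t ≠ c → Rel M s t := by
    intro a b c hab hbc hac hM s t hsa hsb hsc hta htb htc
    by_cases hst : s = t
    · exact Or.inl hst
    obtain ⟨u, hua, hub, huc, hus, hut, -⟩ := hex a b c s t t
    have h1 := (h a b c s t u (by
      simp only [List.nodup_cons, List.mem_cons, List.not_mem_nil, or_false, not_or, not_false_eq_true,
        List.nodup_nil, and_true]
      exact ⟨⟨hab, hac, hsa.symm, hta.symm, hua.symm⟩, ⟨hbc, hsb.symm, htb.symm, hub.symm⟩,
        ⟨hsc.symm, htc.symm, huc.symm⟩, ⟨hst, hus.symm⟩, hut.symm⟩)).resolve_left hM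
    exact Rel.of_cy hst hut.symm hus.symm h1
  by_cases hall : ∀ a b c : α, a ≠ b → b ≠ c → a ≠ c → cy a b c ∈ M
  · obtain ⟨i, -⟩ := exists_notMem (∅ : Finset α) (by rw [Finset.card_empty]; omega)
    refine good_of_rel i fun a b _ _ => ?_
    by_cases hab : a = b
    · exact Or.inl hab
    obtain ⟨c, hca, hcb, -⟩ := hex a b a b a b
    exact Rel.of_cy hab hcb.symm hca.symm (hall _ _ _ hab hcb.symm hca.symm)
  · push Not at hall
    obtain ⟨a, b, c, hab, hbc, hac, hM⟩ := hall
    have hY := hrel a b c hab hbc hac hM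
    obtain ⟨y, hya, hyb, hyc, -⟩ := hex a b c a b c
    obtain ⟨z, hza, hzb, hzc, hzy, -⟩ := hex a b c y y y
    have hzyr : Rel M z y := hY z y hza hzb hzc hya hyb hyc
    by_cases h1 : cy a b y ∈ M
    · have hby : Rel M b y := Rel.of_cy' hab hyb.symm hya.symm h1
      have hay : Rel M a y := (Rel.of_cy hab hyb.symm hya.symm h1).trans hby
      have h4 : ∀ p : α, p ≠ c → Rel M p y := by
        intro p hp
        by_cases hpa : p = a
        · rw [hpa]
          exact hay
        by_cases hpb : p = b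
        · rw [hpb]
          exact hby
        exact hY p y hpa hpb hp hya hyb hyc
      exact good_of_rel c fun x y hx hy => (h4 x hx).trans (h4 y hy).symm
    · have hcz : Rel M c z := hrel a b y hab hyb.symm hya.symm h1 c z hac.symm hbc.symm hyc.symm hza hzb hzy
      have hcy : Rel M c y := hcz.trans hzyr
      by_cases h2 : cy a c y ∈ M
      · have hay : Rel M a y := (Rel.of_cy hac hyc.symm hya.symm h2).trans hcy
        have h4 : ∀ p : α, p ≠ b → Rel M p y := by
          intro p hp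
          by_cases hpa : p = a
          · rw [hpa]
            exact hay
          by_cases hpc : p = c
          · rw [hpc]
            exact hcy
          exact hY p y hpa hp hpc hya hyb hyc
        exact good_of_rel b fun x y hx hy => (h4 x hx).trans (h4 y hy).symm
      · have hbz : Rel M b z := hrel a c y hac hyc.symm hya.symm h2 b z hab.symm hbc hyb.symm hza hzc hzy
        have hby : Rel M b y := hbz.trans hzyr
        have h4 : ∀ p : α, p ≠ a → Rel M p y := by
          intro p hp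
          by_cases hpb : p = b
          · rw [hpb]
            exact hby
          by_cases hpc : p = c
          · rw [hpc]
            exact hcy
          exact hY p y hp hpb hpc hya hyb hyc
        exact good_of_rel a fun x y hx hy => (h4 x hx).trans (h4 y hy).symm

/-! ### Covers -/

/-- every even conjugate of `M` contains `x` or `y` -/
def Cov2 [Fintype α] (M : Subgroup (Perm α)) (x y : Perm α) : Prop :=
  ∀ a : Perm α, sign a = 1 → a * x * a⁻¹ ∈ M ∨ a * y * a⁻¹ ∈ M

variable [Fintype α] {x y z : Perm α}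

theorem Cov2.symm (h : Cov2 M x y) : Cov2 M y x := fun a ha => (h a ha).symm

theorem Cov2.mv (h : Cov2 M x y) (hz : z ∈ Subgroup.closure {w | ∃ c : Perm α, sign c = 1 ∧ c * y = y * c ∧
    w = c * x * c⁻¹}) : Cov2 M z y := by
  intro a ha
  by_cases hy : a * y * a⁻¹ ∈ M
  · exact Or.inr hy
  left
  have h1 : Subgroup.closure {w | ∃ c : Perm α, sign c = 1 ∧ c * y = y * c ∧ w = c * x * c⁻¹} ≤
      M.comap (MulAut.conj a).toMonoidHom := by
    rw [Subgroup.closure_le]
    rintro _ ⟨c, hc, hcy, rfl⟩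
    change a * (c * x * c⁻¹) * a⁻¹ ∈ M
    have h2 := h (a * c) (by rw [map_mul, ha, hc, one_mul])
    have h3 : a * c * y * (a * c)⁻¹ = a * y * a⁻¹ := by
      rw [mul_assoc a c y, hcy]
      group
    rw [h3] at h2
    have h4 : a * c * x * (a * c)⁻¹ = a * (c * x * c⁻¹) * a⁻¹ := by group
    rw [← h4]
    exact h2.resolve_right hy
  exact h1 hz

/-- the move with a product of two conjugates -/
theorem Cov2.mv2 (h : Cov2 M x y) (c : Perm α) (hc : sign c = 1) (hcy : c * y = y * c) (hz : z = x * (c * x * c⁻¹)) :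
    Cov2 M z y := by
  apply h.mv
  rw [hz]
  refine Subgroup.mul_mem _ (Subgroup.subset_closure ⟨1, by simp, by simp, by simp⟩)
    (Subgroup.subset_closure ⟨c, hc, hcy, rfl⟩)

theorem Cov2.mv2' (h : Cov2 M x y) (c : Perm α) (hc : sign c = 1) (hcy : c * y = y * c)
    (hz : z = x⁻¹ * (c * x * c⁻¹)) : Cov2 M z y := by
  apply h.mv
  rw [hz]
  refine Subgroup.mul_mem _ (Subgroup.inv_mem _ (Subgroup.subset_closure ⟨1, by simp, by simp, by simp⟩))
    (Subgroup.subset_closure ⟨c, hc, hcy, rfl⟩)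

/-- the move with a product of three conjugates -/
theorem Cov2.mv3 (h : Cov2 M x y) (c : Perm α) (hc : sign c = 1) (hcy : c * y = y * c)
    (hz : z = x * (c * x * c⁻¹) * (c * c * x * (c * c)⁻¹)) : Cov2 M z y := by
  apply h.mv
  rw [hz]
  refine Subgroup.mul_mem _ (Subgroup.mul_mem _ (Subgroup.subset_closure ⟨1, by simp, by simp, by simp⟩)
    (Subgroup.subset_closure ⟨c, hc, hcy, rfl⟩)) (Subgroup.subset_closure ⟨c * c, by rw [map_mul, hc, one_mul], ?_, rfl⟩)
  rw [mul_assoc, hcy, ← mul_assoc, hcy, mul_assoc]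

/-- a swap and a three-cycle -/
theorem good_swap_cy (h5 : 5 ≤ Fintype.card α) {i j k l m : α} (hd : [i, j, k, l, m].Nodup)
    (h : Cov2 M (swap i j) (cy k l m)) : Good M := by
  apply good_two h5
  intro p q s t u hn
  let e : Fin 5 ↪ α := ⟨![i, j, k, l, m], by
    rw [← List.nodup_ofFn]
    simpa [List.ofFn_succ] using hd⟩
  let f : Fin 5 ↪ α := ⟨![p, q, s, t, u], by
    rw [← List.nodup_ofFn]
    simpa [List.ofFn_succ] using hn⟩
  obtain ⟨σ, hσ⟩ := exists_smul_eq_embedding e f
  have h0 : σ i = p := DFunLike.congr_fun hσ 0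
  have h1 : σ j = q := DFunLike.congr_fun hσ 1
  have h2 : σ k = s := DFunLike.congr_fun hσ 2
  have h3 : σ l = t := DFunLike.congr_fun hσ 3
  have h4 : σ m = u := DFunLike.congr_fun hσ 4
  simp only [List.nodup_cons, List.mem_cons, List.not_mem_nil, or_false, not_or, not_false_eq_true,
        List.nodup_nil, and_true] at hd
  rcases Int.units_eq_one_or (sign σ) with hs | hs
  · have h6 := h σ hs
    rwa [swap_conj, cy_conj, h0, h1, h2, h3, h4] at h6
  · have h6 := h (σ * swap i j) (by rw [map_mul, hs, sign_swap hd.1.1]; rfl)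
    rw [swap_conj, cy_conj] at h6
    simp only [coe_mul, Function.comp_apply] at h6
    rw [swap_apply_left, swap_apply_right, swap_apply_of_ne_of_ne (Ne.symm hd.1.2.1) (Ne.symm hd.2.1.1),
      swap_apply_of_ne_of_ne (Ne.symm hd.1.2.2.1) (Ne.symm hd.2.1.2.1),
      swap_apply_of_ne_of_ne (Ne.symm hd.1.2.2.2) (Ne.symm hd.2.1.2.2), h0, h1, h2, h3, h4, swap_comm] at h6
    exact h6

/-- two disjoint three-cycles -/
theorem good_cy_cy (h8 : 8 ≤ Fintype.card α) {i j k l m n : α} (hd : [i, j, k, l, m, n].Nodup)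
    (h : Cov2 M (cy i j k) (cy l m n)) : Good M := by
  apply good_three h8
  intro p q r s t u hn
  let e : Fin 6 ↪ α := ⟨![i, j, k, l, m, n], by
    rw [← List.nodup_ofFn]
    simpa [List.ofFn_succ] using hd⟩
  let f : Fin 6 ↪ α := ⟨![p, q, r, s, t, u], by
    rw [← List.nodup_ofFn]
    simpa [List.ofFn_succ] using hn⟩
  have hm := alternatingGroup.isMultiplyPretransitive α
  have hm6 : MulAction.IsMultiplyPretransitive (alternatingGroup α) α 6 := by
    apply MulAction.isMultiplyPretransitive_of_le (n := Nat.card α - 2)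
    · rw [Nat.card_eq_fintype_card]
      omega
    · omega
  obtain ⟨σ, hσ⟩ := (MulAction.isMultiplyPretransitive_iff).1 hm6 e f
  have h0 : (σ : Perm α) i = p := DFunLike.congr_fun hσ 0
  have h1 : (σ : Perm α) j = q := DFunLike.congr_fun hσ 1
  have h2 : (σ : Perm α) k = r := DFunLike.congr_fun hσ 2
  have h3 : (σ : Perm α) l = s := DFunLike.congr_fun hσ 3
  have h4 : (σ : Perm α) m = t := DFunLike.congr_fun hσ 4
  have h5 : (σ : Perm α) n = u := DFunLike.congr_fun hσ 5
  have h6 := h σ (mem_alternatingGroup.1 σ.2)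
  rwa [cy_conj, cy_conj, h0, h1, h2, h3, h4, h5] at h6

end Cfsg.Agent.H390.RC
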